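import Mathlib.AlgebraicGeometry.Noetherian

/-!
# Quasi-compactness and locally Noetherian underlying spaces
-/

universe u

open CategoryTheory AlgebraicGeometry TopologicalSpace Topology

namespace Groth.Agent.QCNoeth

/-- In a space covered by Noetherian opens, subsets of compact sets are compact. -/
lemma isCompact_of_subset {X : Type*} [TopologicalSpace X]
    (h : ∀ x : X, ∃ U : Opens X, x ∈ U ∧ NoetherianSpace U) {C S : Set X} (hC : IsCompact C)
    (hS : S ⊆ C) : IsCompact S := by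
  choose U hxU hU using h
  obtain ⟨t, ht⟩ := hC.elim_finite_subcover (fun x => (U x : Set X)) (fun x => (U x).2)
    fun x _ => Set.mem_iUnion.mpr ⟨x, hxU x⟩
  have : S = ⋃ x ∈ t, S ∩ U x := by
    ext z
    simp only [Set.mem_iUnion, Set.mem_inter_iff]
    constructor
    · intro hz
      obtain ⟨x, hx, hz'⟩ := Set.mem_iUnion₂.mp (ht (hS hz))
      exact ⟨x, hx, hz, hz'⟩
    · rintro ⟨x, -, hz, -⟩; exact hz
  rw [this]
  refine t.isCompact_biUnion fun x _ => ?_
  have := hU x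
  have e : S ∩ U x = ((↑) : U x → X) '' (((↑) : U x → X) ⁻¹' S) := by
    ext z; simp [and_comm]
  rw [e]
  exact (NoetherianSpace.isCompact _).image continuous_subtype_val

lemma quasiCompact_of_comp {X Y Z : Scheme.{u}} (f : X ⟶ Y) (g : Y ⟶ Z) [QuasiCompact (f ≫ g)]
    (hX : ∀ x : X, ∃ U : X.Opens, x ∈ U ∧ NoetherianSpace U) : QuasiCompact f := by
  rw [quasiCompact_iff_forall_isAffineOpen]
  intro V hV
  obtain ⟨t, ht⟩ := (hV.isCompact.image g.continuous).elim_finite_subcover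
    (fun W : Z.affineOpens => (W.1 : Set Z)) (fun W => W.1.2) fun z _ => by
      obtain ⟨_, ⟨W, hW, rfl⟩, hz, -⟩ :=
        Z.isBasis_affineOpens.exists_subset_of_mem_open (Set.mem_univ z) isOpen_univ
      exact Set.mem_iUnion.mpr ⟨⟨W, hW⟩, hz⟩
  refine isCompact_of_subset hX
    (C := ⋃ W ∈ t, ((f ≫ g) ⁻¹ᵁ W.1 : Set X)) (t.isCompact_biUnion fun W _ => ?_) ?_
  · exact quasiCompact_iff_forall_isAffineOpen.mp ‹_› W.1 W.2
  · intro x hx
    obtain ⟨W, hW, hz⟩ := Set.mem_iUnion₂.mp (ht ⟨f x, hx, rfl⟩)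
    exact Set.mem_iUnion₂.mpr ⟨W, hW, hz⟩

lemma exists_noetherianSpace_nhd {X : Scheme.{u}} [IsLocallyNoetherian X] (x : X) :
    ∃ U : X.Opens, x ∈ U ∧ NoetherianSpace U := by
  obtain ⟨_, ⟨U, hU, rfl⟩, hx, -⟩ :=
    X.isBasis_affineOpens.exists_subset_of_mem_open (Set.mem_univ x) isOpen_univ
  have := IsLocallyNoetherian.component_noetherian ⟨U, hU⟩
  exact ⟨U, hx, noetherianSpace_of_isAffineOpen U hU⟩

end Groth.Agent.QCNoeth
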